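import Cfsg.Agent.LocalStructure.StronglyEmbedded
import Cfsg.Agent.SylowGraph.Basic
import Cfsg.Agent.FusSys.Embedded

/-!
# Equivalence of the two notions of strongly `p`-embedded subgroup
-/

set_option autoImplicit false
set_option linter.unusedSectionVars false

open Subgroup

namespace Cfsg.Agent.StrongEmb

variable {G : Type*} [Group G] [Finite G] {p : ℕ} [hp : Fact p.Prime]

/-- The normaliser definition implies the intersection property. -/
theorem se_of_isStronglyPEmbedded {M : Subgroup G} (hM : Cfsg.IsStronglyPEmbedded p M) :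
    SylowGraph.SE p M := by
  obtain ⟨P, hPM, -, hN⟩ := LocalStructure.exists_sylow_of_stronglyPEmbedded hM
  intro g hg hdvd
  obtain ⟨x', hxo⟩ := exists_prime_orderOf_dvd_card' p hdvd
  rw [← Subgroup.orderOf_coe] at hxo
  obtain ⟨hxM, w, hw, hwx⟩ := x'.2
  generalize (x' : G) = x at hxo hxM hwx
  obtain ⟨T, hT⟩ := ((IsPGroup.of_card (n := 1) (by rw [Nat.card_zpowers, hxo, pow_one]) :
    IsPGroup p (zpowers x)).comap_of_injective M.subtype M.subtype_injective).exists_le_sylow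
  obtain ⟨h, hh⟩ := MulAction.exists_smul_eq M T (P.subtype hPM)
  have hx0 : (h : G) * x * (h : G)⁻¹ ∈ (P : Subgroup G) := by
    have h2 : h * ⟨x, hxM⟩ * h⁻¹ ∈ (P.subtype hPM : Subgroup M) := by
      rw [← hh]
      exact ⟨⟨x, hxM⟩, hT (mem_zpowers x), by simp⟩
    exact h2
  change g * w * g⁻¹ = x at hwx
  have hne : ∀ y : G, orderOf y = p → y ≠ 1 := fun y hy e => by
    rw [e, orderOf_one] at hy
    exact hp.out.ne_one hy.symm
  have h3 := LocalStructure.mem_of_conj_mem M P hPM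
    (fun y hy hyo => LocalStructure.centralizer_le_of_normalizers_le hN hy (hne y hyo))
    (hN _ le_rfl (fun e => by
      rw [e, mem_bot] at hx0
      exact hne x hxo (conj_eq_one_iff.1 hx0)))
    hx0 (by rw [show (h : G) * x * (h : G)⁻¹ = MulAut.conj (h : G) x by simp, MulEquiv.orderOf_eq, hxo])
    (g := g⁻¹ * (h : G)⁻¹) (by
      rw [show g⁻¹ * (h : G)⁻¹ * ((h : G) * x * (h : G)⁻¹) * (g⁻¹ * (h : G)⁻¹)⁻¹ = g⁻¹ * x * g by group,
        ← hwx, show g⁻¹ * (g * w * g⁻¹) * g = w by group]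
      exact hw)
  refine hg ?_
  have := M.inv_mem (M.mul_mem h3 h.2)
  simpa using this

theorem dvd_card {M : Subgroup G} (hM : Cfsg.IsStronglyPEmbedded p M) : p ∣ Nat.card M := by
  obtain ⟨P, hPM, hne, -⟩ := LocalStructure.exists_sylow_of_stronglyPEmbedded hM
  obtain ⟨k, hk⟩ := IsPGroup.iff_card.1 P.2
  refine dvd_trans ?_ (card_dvd_of_le hPM)
  rw [hk]
  refine dvd_pow_self p fun h0 => hne ?_
  rw [h0, pow_zero] at hk
  exact card_eq_one.1 hk

theorem isStronglyPEmbedded_of_se {M : Subgroup G} (hM : M ≠ ⊤) (hpM : p ∣ Nat.card M)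
    (hse : SylowGraph.SE p M) : Cfsg.IsStronglyPEmbedded p M := by
  obtain ⟨T, hT, -⟩ := SylowGraph.exists_sylow_le hpM hse
  exact ⟨hpM.trans (card_subgroup_dvd_card M), hM, T, FusSys.kGen_le T fun Q hQT hQ =>
    SylowGraph.normalizer_le hse (T.2.to_le hQT) hQ (hQT.trans hT)⟩

theorem isStronglyPEmbedded_iff {M : Subgroup G} :
    Cfsg.IsStronglyPEmbedded p M ↔ M ≠ ⊤ ∧ p ∣ Nat.card M ∧ SylowGraph.SE p M :=
  ⟨fun h => ⟨h.2.1, dvd_card h, se_of_isStronglyPEmbedded h⟩,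
    fun h => isStronglyPEmbedded_of_se h.1 h.2.1 h.2.2⟩

/-- Intersections with subgroups not inside. -/
theorem isStronglyPEmbedded_subgroupOf {M : Subgroup G} (hM : Cfsg.IsStronglyPEmbedded p M)
    {H : Subgroup G} (hH : ¬ H ≤ M) (hdvd : p ∣ Nat.card ↥(H ⊓ M)) :
    Cfsg.IsStronglyPEmbedded p ((H ⊓ M).subgroupOf H) := by
  refine isStronglyPEmbedded_of_se (fun e => hH ((subgroupOf_eq_top.1 e).trans inf_le_right)) ?_
    fun g hg hd => ?_
  · rwa [Nat.card_congr (subgroupOfEquivOfLe (inf_le_left : H ⊓ M ≤ H)).toEquiv]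
  · refine se_of_isStronglyPEmbedded hM (g : G) (fun hgM => hg ⟨g.2, hgM⟩) (hd.trans ?_)
    rw [← card_map_of_injective H.subtype_injective]
    refine card_dvd_of_le ?_
    rintro _ ⟨x, ⟨hx, w, hw, rfl⟩, rfl⟩
    exact ⟨hx.2, (w : G), hw.2, rfl⟩

end Cfsg.Agent.StrongEmb
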